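import Groth.Agent.Lib.Hens.Fibre
import Groth.Agent.Lib.Hens.AtPrime
import Groth.Agent.Lib.WEtaleTor4.Basic
import Groth.Agent.S2833
import Mathlib.RingTheory.Flat.Localization

/-!
# Localisations of strict henselizations are dominated by strictly henselian rings over the base
-/

set_option autoImplicit false
set_option linter.style.haveILetI false

universe u

open IsLocalRing

open scoped TensorProduct

namespace Groth.Agent.GeomFact27

open Groth.Agent.Hens

/-- Residue points of the colimit of étale neighbourhoods lift to henselian local rings. -/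
theorem exists_lift_of_algHom {R K : Type u} [CommRing R] [Field K] [Algebra R K]
    (T : Type u) [CommRing T] [HenselianLocalRing T] [Algebra R T]
    (ρ : Hs R K →ₐ[R] ResidueField T) :
    ∃ g : Hs R K →ₐ[R] T, ∀ x, residue T (g x) = ρ x := by
  have key : ∀ i : Nbhd R K, ∃ φ : i.G →ₐ[R] T, ∀ x, residue T (φ x) = ρ (Hs.of i x) := by
    intro i
    let π : i.S →ₐ[R] ResidueField T := (ρ.comp (Hs.of i)).comp (IsScalarTower.toAlgHom R i.S i.G)
    obtain ⟨φ₀, hφ₀, -⟩ := existsUnique_algHom_lift (henselianRing_maximalIdeal T) π
    have hφ₀' : ∀ x, residue T (φ₀ x) = π x := fun x => congr($hφ₀ x)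
    have hu : ∀ y : i.q.primeCompl, IsUnit (φ₀ (y : i.S)) := fun y => by
      rw [← residue_ne_zero_iff_isUnit, hφ₀']
      exact (((IsLocalization.map_units (M := i.q.primeCompl) i.G y).map (Hs.of i)).map ρ).ne_zero
    let φ : i.G →ₐ[R] T := IsLocalization.liftAlgHom (M := i.q.primeCompl) (f := φ₀) hu
    refine ⟨φ, fun x => ?_⟩
    have : (IsScalarTower.toAlgHom R T (ResidueField T)).comp φ = ρ.comp (Hs.of i) := by
      refine IsLocalization.algHom_ext i.q.primeCompl ?_
      ext z
      show residue T (φ (algebraMap i.S i.G z)) = ρ (Hs.of i (algebraMap i.S i.G z))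
      rw [show φ (algebraMap i.S i.G z) = φ₀ z from IsLocalization.lift_eq _ z]
      exact hφ₀' z
    exact congr($this x)
  choose φ hφ using key
  let g : Hs R K →ₐ[R] T := DirectLimit.Algebra.lift (fun i : Nbhd R K => i.G)
    (fun i j h => Nbhd.map (i := i) (j := j) h) T φ (fun i j h x => by
      have : (φ j).comp (Nbhd.map h) = φ i := i.hom_ext fun z => by
        rw [← residue_eq_zero_iff, map_sub, AlgHom.comp_apply, hφ, hφ, Hs.of_map, sub_self]
      exact congr($this x))
  exact ⟨g, fun x => by obtain ⟨i, y, rfl⟩ := Hs.exists_of x; exact hφ i y⟩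

variable (A S : Type u) [CommRing A] [IsLocalRing A] [CommRing S] [IsLocalRing S] [Algebra A S]
  [IsLocalHom (algebraMap A S)] [Hensel.IsStrictHenselization A S]

/-- A prime of a strict henselization is the centre of any strictly henselian algebra over its contraction. -/
theorem exists_algHom_comap_eq (q : Ideal S) [q.IsPrime] (T : Type u) [CommRing T] [HenselianLocalRing T]
    [IsSepClosed (ResidueField T)] [Algebra A T]
    (hT : (maximalIdeal T).comap (algebraMap A T) = q.comap (algebraMap A S)) :
    ∃ g : S →ₐ[A] T, (maximalIdeal T).comap g.toRingHom = q := by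
  obtain ⟨e⟩ := exists_strictHenselization_equiv A S
  let p := q.comap (algebraMap A S)
  let φ : A →+* ResidueField T := (residue T).comp (algebraMap A T)
  have hker : RingHom.ker φ = p := by
    rw [← RingHom.comap_ker, ker_residue]; exact hT
  obtain ⟨φ', hφ'⟩ := exists_residueField_lift p φ hker
  letI : Algebra p.ResidueField (ResidueField T) := φ'.toAlgebra
  letI : Algebra p.ResidueField q.ResidueField := (Ideal.ResidueField.map p q (algebraMap A S) rfl).toAlgebra
  haveI : IsScalarTower A p.ResidueField q.ResidueField := IsScalarTower.of_algebraMap_eq fun a => by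
    rw [IsScalarTower.algebraMap_apply A S q.ResidueField]
    exact (Ideal.ResidueField.map_algebraMap p q (algebraMap A S) rfl a).symm
  haveI : Algebra.IsSeparable p.ResidueField q.ResidueField := by
    have hs : ∀ s : S, IsSeparable p.ResidueField (algebraMap S q.ResidueField s) := fun s => by
      obtain ⟨i, y, hy⟩ := Hs.exists_of (e.symm s)
      haveI : Algebra.FormallyUnramified A i.G :=
        have : Algebra.FormallyEtale A i.G := inferInstance
        inferInstance
      haveI h2 := @Algebra.FormallyUnramified.base_change A _ i.G _ _ p.ResidueField _ _ _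
      haveI h3 := @Algebra.EssFiniteType.baseChange A i.G p.ResidueField _ _ _ _ _ (inferInstance : Algebra.EssFiniteType A i.G)
      let ψ : i.G →ₐ[A] q.ResidueField :=
        (IsScalarTower.toAlgHom A S q.ResidueField).comp (e.toAlgHom.comp (Hs.of i))
      let χ : p.ResidueField ⊗[A] i.G →ₐ[p.ResidueField] q.ResidueField :=
        Algebra.TensorProduct.lift (Algebra.ofId _ _) ψ fun _ _ => .all _ _
      have := isSeparable_algHom_apply χ ((1 : p.ResidueField) ⊗ₜ[A] y)
      have h1 : χ ((1 : p.ResidueField) ⊗ₜ[A] y) = algebraMap S q.ResidueField s := by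
        rw [Algebra.TensorProduct.lift_tmul, map_one, one_mul]
        show algebraMap S q.ResidueField (e (Hs.of i y)) = _
        rw [hy, e.apply_symm_apply]
      rwa [h1] at this
    refine ⟨fun x => ?_⟩
    obtain ⟨a, b, hb, rfl⟩ := IsFractionRing.div_surjective (S ⧸ q) x
    obtain ⟨a, rfl⟩ := Ideal.Quotient.mk_surjective a
    obtain ⟨b, rfl⟩ := Ideal.Quotient.mk_surjective b
    have ha' := hs a
    have hb' := hs b
    rw [IsScalarTower.algebraMap_apply S (S ⧸ q) q.ResidueField] at ha' hb'
    rw [div_eq_mul_inv]
    exact Field.isSeparable_mul ha' (Field.isSeparable_inv hb')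
  let τ : q.ResidueField →ₐ[p.ResidueField] ResidueField T := IsSepClosed.lift
  let ρ : Hsh A →ₐ[A] ResidueField T :=
    { (τ.toRingHom.comp (algebraMap S q.ResidueField)).comp e.toRingEquiv.toRingHom with
      commutes' := fun a => by
        show τ (algebraMap S q.ResidueField (e (algebraMap A (Hsh A) a))) = residue T (algebraMap A T a)
        rw [AlgEquiv.commutes, ← IsScalarTower.algebraMap_apply A S q.ResidueField,
          IsScalarTower.algebraMap_apply A p.ResidueField q.ResidueField, AlgHom.commutes]
        exact hφ' a }
  obtain ⟨g, hg⟩ := exists_lift_of_algHom T ρ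
  refine ⟨g.comp e.symm.toAlgHom, ?_⟩
  ext s
  show g (e.symm s) ∈ maximalIdeal T ↔ s ∈ q
  rw [← residue_eq_zero_iff, hg]
  show τ (algebraMap S q.ResidueField (e (e.symm s))) = 0 ↔ _
  rw [e.apply_symm_apply, map_eq_zero, Ideal.algebraMap_residueField_eq_zero]

/-- A localisation of a strict henselization is factorial when some flat strictly henselian algebra over its
contraction is. -/
theorem ufd_localization_of_strictlyHenselian [IsNoetherianRing S] (q : Ideal S) [q.IsPrime] (T : Type u) [CommRing T]
    [HenselianLocalRing T] [IsNoetherianRing T] [IsSepClosed (ResidueField T)] [Algebra A T] [Module.Flat A T]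
    [IsDomain T] (hU : UniqueFactorizationMonoid T)
    (hT : (maximalIdeal T).comap (algebraMap A T) = q.comap (algebraMap A S)) :
    IsDomain (Localization.AtPrime q) ∧ UniqueFactorizationMonoid (Localization.AtPrime q) := by
  obtain ⟨g, hg⟩ := exists_algHom_comap_eq A S q T hT
  letI : Algebra S T := g.toRingHom.toAlgebra
  haveI : IsScalarTower A S T := IsScalarTower.of_algebraMap_eq fun a => (g.commutes a).symm
  haveI : Algebra.WeaklyEtale A S := WEtaleTor4.weaklyEtale_strictHenselization A S
  haveI : Module.Flat S T := WEtaleTor4.flat_of_weaklyEtale A S T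
  have hu : ∀ y : q.primeCompl, IsUnit (algebraMap S T y) := fun y => by
    by_contra hn
    exact y.2 (hg.le ((mem_maximalIdeal _).2 hn))
  let f : Localization.AtPrime q →+* T := IsLocalization.lift hu
  letI : Algebra (Localization.AtPrime q) T := f.toAlgebra
  haveI : IsScalarTower S (Localization.AtPrime q) T :=
    IsScalarTower.of_algebraMap_eq fun s => (IsLocalization.lift_eq hu s).symm
  haveI : Module.Flat (Localization.AtPrime q) T :=
    (Module.flat_iff_of_isLocalization (Localization.AtPrime q) q.primeCompl T).2 inferInstance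
  haveI : IsNoetherianRing (Localization.AtPrime q) :=
    IsLocalization.isNoetherianRing q.primeCompl _ inferInstance
  haveI : IsLocalHom (algebraMap (Localization.AtPrime q) T) := ⟨fun x hx => by
    obtain ⟨s, t, rfl⟩ := IsLocalization.exists_mk'_eq q.primeCompl x
    rw [IsLocalization.AtPrime.isUnit_mk'_iff (Localization.AtPrime q) q]
    intro hs
    have h1 : algebraMap (Localization.AtPrime q) T (IsLocalization.mk' _ s t) * algebraMap S T t =
        algebraMap S T s := by
      rw [IsScalarTower.algebraMap_apply S (Localization.AtPrime q) T, ← map_mul, IsLocalization.mk'_spec,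
        ← IsScalarTower.algebraMap_apply]
    exact (hg.ge hs : g s ∈ maximalIdeal T) (h1 ▸ hx.mul (hu t))⟩
  exact Groth.Agent.S2833.result (Localization.AtPrime q) T hU

end Groth.Agent.GeomFact27
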